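import Cfsg.Agent.Lib.CyclicTI.FrobCore
import Cfsg.Agent.Lib.Frobenius.TI
import Cfsg.Agent.Lib.CharTheory.Degree

/-!
# Coherent exceptional characters of a TI subgroup with Frobenius normalizer

`K` is TI in `G`, properly contained in its normalizer `N` and contains the centralizer of each of
its non-identity elements; `H` is `K` as a subgroup of `N`.  For a class function `Φ` of `G` that
is a virtual character, the values on `K \ 1` are `∑ ⟨Φ, σ χ⟩ χ + C` with `C` an integer.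
-/

set_option autoImplicit false
set_option linter.style.haveILetI false
set_option linter.unusedSectionVars false

open Cfsg CfsgLib.CharTheory CfsgLib.CyclicTI CfsgLib.CyclicTI.Frob

namespace CfsgLib.Coherence.TIFN

universe u

section Local

variable {N : Type*} [Group N] [Fintype N] {H : Subgroup N} [H.Normal]

theorem eq_zero_off (hC : KernelCond H) {χ : N → ℂ} (hχ : χ ∈ charSet H) {x : N} (hx : x ∉ H) :
    χ x = 0 := by
  rw [charSet_eq hC] at hχ
  obtain ⟨θ, -, -, -, rfl⟩ := hχ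
  exact CfsgLib.Frobenius.indFun_eq_zero_of_not_mem H θ hx

theorem finite_charSet : (charSet H).Finite := IrrSet.set_finite fun _ h => h.1

theorem index_dvd_deg_of_mem (hC : KernelCond H) {χ : N → ℂ} (hχ : χ ∈ charSet H) :
    H.index ∣ deg χ := by
  rw [charSet_eq hC] at hχ
  exact index_dvd_deg hχ

theorem sum_deg_sq (hC : KernelCond H) (T : Finset (N → ℂ))
    (hT : (↑T : Set (N → ℂ)) = charSet H) :
    ∑ φ ∈ T, deg φ ^ 2 = H.index * (Nat.card H - 1) := by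
  rw [sum_sq hC ⊥ T (hT.trans (charSet_eq hC)), Subgroup.relIndex_bot_left]

/-- An integer family proportional to the degrees is a multiple of `deg / [N:H]`. -/
theorem exists_common_ratio (hC : KernelCond H) (T : Finset (N → ℂ))
    (hT : (↑T : Set (N → ℂ)) = charSet H) (d : (N → ℂ) → ℤ)
    (hd : ∀ χ ∈ T, ∀ ξ ∈ T, d χ * deg ξ = d ξ * deg χ) :
    ∃ t : ℤ, ∀ χ ∈ T, d χ * H.index = t * deg χ := by
  rcases T.eq_empty_or_nonempty with rfl | ⟨ξ₀, hξ₀⟩
  · exact ⟨0, by simp⟩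
  have hmem : ∀ χ ∈ T, χ ∈ charSet H := fun χ h => hT ▸ Finset.mem_coe.2 h
  set e := H.index with he
  have he0 : 0 < e := Nat.pos_of_ne_zero Subgroup.index_ne_zero_of_finite
  set k : (N → ℂ) → ℕ := fun χ => deg χ / e with hk
  have hek : ∀ χ ∈ T, deg χ = e * k χ := fun χ h =>
    (Nat.mul_div_cancel' (index_dvd_deg_of_mem hC (hmem χ h))).symm
  have hkH : ∀ χ ∈ T, k χ ∣ Nat.card H := fun χ h => by
    obtain ⟨n, -, hdvd, hn⟩ := CfsgLib.CharTheory.IsIrrCharacter.exists_degree_dvd (hmem χ h).1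
    rw [← deg_eq hn, hek χ h, ← H.card_mul_index, ← he, mul_comm (Nat.card H)] at hdvd
    exact Nat.dvd_of_mul_dvd_mul_left he0 hdvd
  have hg1 : T.gcd k = 1 := by
    have h1 : T.gcd k ∣ Nat.card H := (Finset.gcd_dvd hξ₀).trans (hkH ξ₀ hξ₀)
    have h2 : e * ∑ χ ∈ T, k χ ^ 2 = Nat.card H - 1 := by
      refine Nat.eq_of_mul_eq_mul_left he0 ?_
      rw [← sum_deg_sq hC T hT, Finset.mul_sum, Finset.mul_sum]
      exact Finset.sum_congr rfl fun χ h => by rw [hek χ h]; ring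
    have h3 : T.gcd k ∣ Nat.card H - 1 := h2 ▸ Dvd.dvd.mul_left
      (Finset.dvd_sum fun χ h => (Finset.gcd_dvd h).trans (dvd_pow_self _ two_ne_zero)) e
    have h4 := Nat.dvd_sub h1 h3
    rw [Nat.sub_sub_self Nat.card_pos] at h4
    exact Nat.dvd_one.1 h4
  have hk0 : 0 < k ξ₀ := by
    have := deg_pos (hmem ξ₀ hξ₀).1
    rw [hek ξ₀ hξ₀] at this
    exact Nat.pos_of_mul_pos_left this
  have hdk : ∀ χ ∈ T, d χ * k ξ₀ = d ξ₀ * k χ := fun χ h => by
    have h' := hd χ h ξ₀ hξ₀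
    rw [hek χ h, hek ξ₀ hξ₀] at h'
    push_cast at h'
    exact mul_left_cancel₀ (by exact_mod_cast he0.ne' : (e : ℤ) ≠ 0) (by linarith)
  have hdvd : (k ξ₀ : ℤ) ∣ d ξ₀ := by
    rw [Int.natCast_dvd]
    have h : k ξ₀ ∣ T.gcd fun χ => (d ξ₀).natAbs * k χ := Finset.dvd_gcd fun χ h => by
      refine ⟨(d χ).natAbs, ?_⟩
      have h' := congrArg Int.natAbs (hdk χ h)
      rw [Int.natAbs_mul, Int.natAbs_mul, Int.natAbs_natCast, Int.natAbs_natCast] at h'
      linarith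
    rwa [Finset.gcd_mul_left, hg1, mul_one, normalize_eq] at h
  obtain ⟨t, ht⟩ := hdvd
  refine ⟨t, fun χ h => ?_⟩
  have h' := hdk χ h
  rw [ht] at h'
  have : d χ = t * k χ :=
    mul_right_cancel₀ (by exact_mod_cast hk0.ne' : (k ξ₀ : ℤ) ≠ 0) (by linarith)
  rw [this, hek χ h]
  push_cast
  ring

/-- The values on `H \ 1` of a class function, from its coefficients at the induced characters. -/
theorem apply_kernel (hC : KernelCond H) (T : Finset (N → ℂ))
    (hT : (↑T : Set (N → ℂ)) = charSet H) {Φ : N → ℂ} (hΦ : IsGeneralizedCharacter N Φ)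
    (w : (N → ℂ) → ℤ) (t : ℤ)
    (ha : ∀ χ ∈ T, (classInner Φ χ - (w χ : ℂ)) * (H.index : ℂ) = (t : ℂ) * χ 1) :
    ∃ C : ℤ, ∀ h : N, h ∈ H → h ≠ 1 → Φ h = ∑ χ ∈ T, (w χ : ℂ) * χ h + C := by
  classical
  haveI := Fintype.ofFinite (IrrCharacter N)
  set R := Finset.univ.filter fun ψ : IrrCharacter N => (ψ : N → ℂ) ∉ T with hR
  have hmem : ∀ χ ∈ T, IsIrrCharacter N χ := fun χ h => (hT ▸ Finset.mem_coe.2 h : χ ∈ charSet H).1
  have hsplit : ∀ f : (N → ℂ) → ℂ,
      ∑ ψ : IrrCharacter N, f ψ = ∑ χ ∈ T, f χ + ∑ ψ ∈ R, f ψ := by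
    intro f
    rw [← Finset.sum_filter_add_sum_filter_not Finset.univ fun ψ : IrrCharacter N => (ψ : N → ℂ) ∈ T]
    congr 1
    refine Finset.sum_bij (fun ψ _ => (ψ : N → ℂ)) (fun ψ hψ => (Finset.mem_filter.1 hψ).2)
      (fun a _ b _ h => Subtype.ext h) (fun χ hχ => ⟨⟨χ, hmem χ hχ⟩, ?_, rfl⟩) (fun _ _ => rfl)
    exact Finset.mem_filter.2 ⟨Finset.mem_univ _, hχ⟩
  have hRconst : ∀ ψ ∈ R, ∀ h ∈ H, (ψ : N → ℂ) h = (ψ : N → ℂ) 1 := by
    intro ψ hψ h hh
    by_contra hne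
    refine (Finset.mem_filter.1 hψ).2 ?_
    have : (ψ : N → ℂ) ∈ charSet H := ⟨ψ.2, h, hh, hne⟩
    rwa [← hT, Finset.mem_coe] at this
  have he : (H.index : ℂ) ≠ 0 := Nat.cast_ne_zero.2 Subgroup.index_ne_zero_of_finite
  have hTsq : ∑ χ ∈ T, χ 1 * χ 1 = (H.index : ℂ) * ((Nat.card H : ℂ) - 1) := by
    rw [Finset.sum_congr rfl (g := fun χ => ((deg χ ^ 2 : ℕ) : ℂ)) (fun χ h => by
      rw [apply_one (hmem χ h), Nat.cast_pow, sq]), ← Nat.cast_sum, sum_deg_sq hC T hT,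
      Nat.cast_mul, Nat.cast_sub Nat.card_pos, Nat.cast_one]
  have hRsq : ∑ ψ ∈ R, (ψ : N → ℂ) 1 * (ψ : N → ℂ) 1 = (H.index : ℂ) := by
    have h := hsplit fun χ => χ 1 * χ 1
    have h' := sum_degree_sq (G := N)
    simp only [sq] at h'
    have hN : (Nat.card N : ℂ) = (Nat.card H : ℂ) * H.index := by
      rw [← Nat.cast_mul, H.card_mul_index]
    rw [h', hTsq, hN] at h
    linear_combination -h
  have hsum : ∀ h : N, h ∈ H → h ≠ 1 → ∑ χ ∈ T, χ 1 * χ h = -(H.index : ℂ) := by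
    intro h hh h1
    have e1 := hsplit fun χ => χ 1 * χ h
    rw [sum_degree_mul h, if_neg h1, Finset.sum_congr rfl (s₁ := R)
      (g := fun ψ => (ψ : N → ℂ) 1 * (ψ : N → ℂ) 1) (fun ψ hψ => by rw [hRconst ψ hψ h hh]),
      hRsq] at e1
    linear_combination -e1
  have hb : ∀ ψ : IrrCharacter N, ∃ z : ℤ, classInner Φ (ψ : N → ℂ) * (ψ : N → ℂ) 1 = z := by
    intro ψ
    obtain ⟨m, hm⟩ := gen_inner hΦ (gen_of_irr ψ.2)
    exact ⟨m * deg (ψ : N → ℂ), by rw [hm, apply_one ψ.2]; push_cast; ring⟩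
  choose b hb using hb
  refine ⟨-t + ∑ ψ ∈ R, b ψ, fun h hh h1 => ?_⟩
  have hdec : Φ h = ∑ ψ : IrrCharacter N, classInner Φ (ψ : N → ℂ) * (ψ : N → ℂ) h := by
    conv_lhs => rw [eq_sum_classInner (IsGeneralizedCharacter.isClassFunction hΦ)]
    simp [Finset.sum_apply]
  rw [hdec, hsplit fun χ => classInner Φ χ * χ h, Finset.sum_congr rfl (s₁ := R)
    (g := fun ψ => (b ψ : ℂ)) (fun ψ hψ => by rw [hRconst ψ hψ h hh, hb])]
  have hT' : ∑ χ ∈ T, classInner Φ χ * χ h = ∑ χ ∈ T, (w χ : ℂ) * χ h - (t : ℂ) := by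
    refine mul_right_cancel₀ he ?_
    rw [sub_mul, Finset.sum_mul, Finset.sum_mul]
    have h2 : ∀ χ ∈ T, classInner Φ χ * χ h * (H.index : ℂ)
        = (w χ : ℂ) * χ h * (H.index : ℂ) + (t : ℂ) * (χ 1 * χ h) := fun χ hχ => by
      linear_combination χ h * ha χ hχ
    rw [Finset.sum_congr rfl h2, Finset.sum_add_distrib, ← Finset.mul_sum, hsum h hh h1]
    ring
  rw [hT']
  push_cast
  ring

theorem not_const_off_one (hC : KernelCond H) (htwo : ∃ χ ∈ charSet H, ∃ ξ ∈ charSet H, χ ≠ ξ)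
    {χ : N → ℂ} (hχ : χ ∈ charSet H) :
    ∃ a ∈ H, ∃ b ∈ H, a ≠ 1 ∧ b ≠ 1 ∧ χ a ≠ χ b := by
  classical
  by_contra hno
  push Not at hno
  obtain ⟨a₀, ha₀, hne⟩ := hχ.2
  have ha1 : a₀ ≠ 1 := fun h => hne (by rw [h])
  obtain ⟨ξ, hξ, hξχ⟩ : ∃ ξ ∈ charSet H, χ ≠ ξ := by
    obtain ⟨x, hx, y, hy, hxy⟩ := htwo
    by_cases h : χ = x
    · exact ⟨y, hy, h ▸ hxy⟩
    · exact ⟨x, hx, h⟩
  have h0 : ∑ x : N, χ x * (starRingEnd ℂ) (ξ x) = 0 := by
    have h := classInner_eq_zero_of_ne hχ.1 hξ.1 hξχ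
    rw [classInner] at h
    exact (mul_eq_zero.1 h).resolve_left (inv_ne_zero (Nat.cast_ne_zero.2 Nat.card_pos.ne'))
  have hξ0 : ∑ x : N, ξ x = 0 := by
    have hne' : ξ ≠ fun _ => 1 := fun h => by
      obtain ⟨a, -, ha⟩ := hξ.2
      exact ha (by rw [h])
    have h := classInner_eq_zero_of_ne hξ.1 isIrrCharacter_one hne'
    rw [classInner] at h
    simpa using (mul_eq_zero.1 h).resolve_left (inv_ne_zero (Nat.cast_ne_zero.2 Nat.card_pos.ne'))
  have hξ1 : (starRingEnd ℂ) (ξ 1) = ξ 1 := by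
    obtain ⟨n, -, hn⟩ := exists_degree_of_isIrr hξ.1
    rw [hn, Complex.conj_natCast]
  have hval : ∀ x : N, χ x * (starRingEnd ℂ) (ξ x)
      = χ a₀ * (starRingEnd ℂ) (ξ x) + if x = 1 then (χ 1 - χ a₀) * ξ 1 else 0 := by
    intro x
    by_cases hx : x ∈ H
    · by_cases hx1 : x = 1
      · subst hx1; rw [if_pos rfl, hξ1]; ring
      · rw [if_neg hx1, add_zero, hno x hx a₀ ha₀ hx1 ha1]
    · rw [eq_zero_off hC hξ hx, map_zero, if_neg fun h : x = 1 => hx (h ▸ H.one_mem)]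
      ring
  rw [Finset.sum_congr rfl fun x _ => hval x, Finset.sum_add_distrib, ← Finset.mul_sum,
    ← map_sum, hξ0, map_zero, mul_zero, zero_add, Finset.sum_ite_eq' Finset.univ (1 : N),
    if_pos (Finset.mem_univ _)] at h0
  rcases mul_eq_zero.1 h0 with h | h
  · exact hne (sub_eq_zero.1 h).symm
  · exact apply_one_ne_zero_of_isIrr hξ.1 h

end Local

section Global

variable {G : Type u} [Group G] [Fintype G] {K : Subgroup G}


theorem kernelCond (hC : ∀ k ∈ K, k ≠ 1 → Subgroup.centralizer ({k} : Set G) ≤ K) :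
    KernelCond (K.subgroupOf (Subgroup.normalizer (K : Set G))) := by
  intro h hh h1 x hx
  rw [Subgroup.mem_subgroupOf] at hh ⊢
  refine hC _ hh (fun e => h1 (Subtype.ext e)) ?_
  rw [Subgroup.mem_centralizer_singleton_iff] at hx ⊢
  exact congrArg Subtype.val hx

theorem charSet_eq_setOf :
    charSet (K.subgroupOf (Subgroup.normalizer (K : Set G))) = {χ : ↥(Subgroup.normalizer (K : Set G)) → ℂ | IsIrrCharacter ↥(Subgroup.normalizer (K : Set G)) χ ∧ ∃ k : ↥(Subgroup.normalizer (K : Set G)), (k : G) ∈ K ∧ χ k ≠ χ 1} := by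
  ext χ
  simp [charSet, Subgroup.mem_subgroupOf]

variable [Fintype ↥(Subgroup.normalizer (K : Set G))]
  (hTI : ∀ g : G, g ∉ (Subgroup.normalizer (K : Set G)) → ∀ k ∈ K, g * k * g⁻¹ ∈ K → k = 1)
  (hC : ∀ k ∈ K, k ≠ 1 → Subgroup.centralizer ({k} : Set G) ≤ K)
  {σ : (↥(Subgroup.normalizer (K : Set G)) → ℂ) → (G → ℂ)} (hσ : IsLinearIsometryOn (zspan (charSet (K.subgroupOf (Subgroup.normalizer (K : Set G))))) σ)
  (hext : ∀ α ∈ zspanOn (charSet (K.subgroupOf (Subgroup.normalizer (K : Set G)))) ({1}ᶜ : Set ↥(Subgroup.normalizer (K : Set G))), σ α = indFun (Subgroup.normalizer (K : Set G)) α)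

include hσ hext in
/-- `σ` on a degree-zero pair. -/
theorem map_pair {χ ξ : ↥(Subgroup.normalizer (K : Set G)) → ℂ} (hχ : χ ∈ charSet (K.subgroupOf (Subgroup.normalizer (K : Set G)))) (hξ : ξ ∈ charSet (K.subgroupOf (Subgroup.normalizer (K : Set G)))) :
    indFun (Subgroup.normalizer (K : Set G)) ((deg ξ : ℂ) • χ - (deg χ : ℂ) • ξ) = (deg ξ : ℂ) • σ χ - (deg χ : ℂ) • σ ξ := by
  have h1 : ((deg ξ : ℂ) • χ - (deg χ : ℂ) • ξ) = (deg ξ : ℤ) • χ + (-(deg χ : ℤ)) • ξ := by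
    funext x
    simp [zsmul_eq_mul, sub_eq_add_neg]
  have hz : ((deg ξ : ℂ) • χ - (deg χ : ℂ) • ξ) ∈ zspanOn (charSet (K.subgroupOf (Subgroup.normalizer (K : Set G)))) ({1}ᶜ : Set ↥(Subgroup.normalizer (K : Set G))) := by
    refine ⟨?_, fun x hx => ?_⟩
    · rw [h1]
      exact add_mem (Submodule.smul_mem _ _ (Submodule.subset_span hχ))
        (Submodule.smul_mem _ _ (Submodule.subset_span hξ))
    · rw [Set.mem_compl_iff, not_not, Set.mem_singleton_iff] at hx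
      subst hx
      rw [Pi.sub_apply, Pi.smul_apply, Pi.smul_apply, apply_one hχ.1, apply_one hξ.1, smul_eq_mul,
        smul_eq_mul]
      ring
  rw [← hext _ hz, h1, hσ.1 _ (Submodule.smul_mem _ _ (Submodule.subset_span hχ)) _
    (Submodule.smul_mem _ _ (Submodule.subset_span hξ)), hσ.2.1 _ (Submodule.subset_span hχ),
    hσ.2.1 _ (Submodule.subset_span hξ)]
  funext x
  simp [zsmul_eq_mul, sub_eq_add_neg]

include hσ in
theorem inner_map {χ ξ : ↥(Subgroup.normalizer (K : Set G)) → ℂ} (hχ : χ ∈ charSet (K.subgroupOf (Subgroup.normalizer (K : Set G)))) (hξ : ξ ∈ charSet (K.subgroupOf (Subgroup.normalizer (K : Set G)))) :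
    classInner (σ χ) (σ ξ) = if χ = ξ then 1 else 0 := by
  rw [hσ.2.2.1 _ (Submodule.subset_span hχ) _ (Submodule.subset_span hξ)]
  exact classInner_irr hχ.1 hξ.1

include hC hσ hext in
/-- The master formula. -/
theorem apply_of_gen {Φ : G → ℂ} (hΦ : IsGeneralizedCharacter G Φ) (T : Finset (↥(Subgroup.normalizer (K : Set G)) → ℂ))
    (hT : (↑T : Set (↥(Subgroup.normalizer (K : Set G)) → ℂ)) = charSet (K.subgroupOf (Subgroup.normalizer (K : Set G)))) :
    ∃ C : ℤ, ∀ k : ↥(Subgroup.normalizer (K : Set G)), (k : G) ∈ K → k ≠ 1 →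
      Φ k = ∑ χ ∈ T, classInner Φ (σ χ) * χ k + C := by
  classical
  have hmem : ∀ χ ∈ T, χ ∈ charSet (K.subgroupOf (Subgroup.normalizer (K : Set G))) := fun χ h => hT ▸ Finset.mem_coe.2 h
  have hres : IsGeneralizedCharacter ↥(Subgroup.normalizer (K : Set G)) (fun x => Φ x) :=
    isGeneralizedCharacter_comp hΦ (Subgroup.subtype _)
  have hw : ∀ χ : ↥(Subgroup.normalizer (K : Set G)) → ℂ, ∃ z : ℤ, χ ∈ T → classInner Φ (σ χ) = z := fun χ => by
    by_cases h : χ ∈ T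
    · obtain ⟨z, hz⟩ := gen_inner hΦ (hσ.2.2.2 _ (Submodule.subset_span (hmem χ h)))
      exact ⟨z, fun _ => hz⟩
    · exact ⟨0, fun h' => absurd h' h⟩
  choose w hw using hw
  have ha : ∀ χ : ↥(Subgroup.normalizer (K : Set G)) → ℂ, ∃ z : ℤ, χ ∈ T → classInner (fun x : ↥(Subgroup.normalizer (K : Set G)) => Φ x) χ = z := fun χ => by
    by_cases h : χ ∈ T
    · obtain ⟨z, hz⟩ := gen_inner hres (gen_of_irr (hmem χ h).1)
      exact ⟨z, fun _ => hz⟩
    · exact ⟨0, fun h' => absurd h' h⟩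
  choose a ha using ha
  obtain ⟨t, ht⟩ := exists_common_ratio (kernelCond hC) T hT (fun χ => a χ - w χ)
    fun χ hχ ξ hξ => by
    have h := congrArg (classInner Φ) (map_pair hσ hext (hmem χ hχ) (hmem ξ hξ))
    rw [CfsgLib.Frobenius.classInner_indFun_right _ _ _ (IsGeneralizedCharacter.isClassFunction hΦ),
      classInner_sub_right, classInner_sub_right, classInner_smul_right, classInner_smul_right,
      classInner_smul_right, classInner_smul_right, ha χ hχ, ha ξ hξ, hw χ hχ, hw ξ hξ,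
      map_natCast, map_natCast] at h
    have h' : (deg ξ : ℤ) * a χ - deg χ * a ξ = deg ξ * w χ - deg χ * w ξ := by exact_mod_cast h
    linarith
  obtain ⟨C, hCC⟩ := apply_kernel (kernelCond hC) T hT hres w t fun χ hχ => by
    have h := ht χ hχ
    rw [ha χ hχ, apply_one (hmem χ hχ).1]
    exact_mod_cast h
  refine ⟨C, fun k hk hk1 => ?_⟩
  rw [Finset.sum_congr rfl fun χ hχ => by rw [hw χ hχ]]
  exact hCC k (Subgroup.mem_subgroupOf.2 hk) hk1

include hC hσ hext in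
/-- `σ χ` differs from `χ` by an integer on `K \ 1`. -/
theorem exists_shift {χ : ↥(Subgroup.normalizer (K : Set G)) → ℂ} (hχ : χ ∈ charSet (K.subgroupOf (Subgroup.normalizer (K : Set G)))) :
    ∃ C : ℤ, ∀ k : ↥(Subgroup.normalizer (K : Set G)), (k : G) ∈ K → k ≠ 1 → σ χ k = χ k + C := by
  classical
  set T := (finite_charSet (H := (K.subgroupOf (Subgroup.normalizer (K : Set G))))).toFinset with hTdef
  obtain ⟨C, hC'⟩ := apply_of_gen hC hσ hext (hσ.2.2.2 _ (Submodule.subset_span hχ)) T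
    (Set.Finite.coe_toFinset _)
  refine ⟨C, fun k hk hk1 => ?_⟩
  rw [hC' k hk hk1, Finset.sum_eq_single χ (fun ξ hξ hne => by
    rw [inner_map hσ hχ ((Set.Finite.mem_toFinset _).1 hξ), if_neg hne.symm, zero_mul])
    (fun h => absurd ((Set.Finite.mem_toFinset _).2 hχ) h), inner_map hσ hχ hχ, if_pos rfl, one_mul]

include hTI hC hσ hext in
/-- The shifts are proportional to the degrees. -/
theorem exists_ratio :
    ∃ m : ℤ, ∀ χ ∈ charSet (K.subgroupOf (Subgroup.normalizer (K : Set G))), ∀ k : ↥(Subgroup.normalizer (K : Set G)), (k : G) ∈ K → k ≠ 1 →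
      σ χ k - χ k = (m : ℂ) * χ 1 / ((K.subgroupOf (Subgroup.normalizer (K : Set G))).index : ℂ) := by
  classical
  by_cases hK : ∀ k : ↥(Subgroup.normalizer (K : Set G)), (k : G) ∈ K → k = 1
  · exact ⟨0, fun χ _ k hk hk1 => absurd (hK k hk) hk1⟩
  push Not at hK
  obtain ⟨k₀, hk₀, hk₀1⟩ := hK
  have hs : ∀ χ : ↥(Subgroup.normalizer (K : Set G)) → ℂ, ∃ C : ℤ, χ ∈ charSet (K.subgroupOf (Subgroup.normalizer (K : Set G))) →
      ∀ k : ↥(Subgroup.normalizer (K : Set G)), (k : G) ∈ K → k ≠ 1 → σ χ k = χ k + C := fun χ => by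
    by_cases h : χ ∈ charSet (K.subgroupOf (Subgroup.normalizer (K : Set G)))
    · obtain ⟨C, hC'⟩ := exists_shift hC hσ hext h
      exact ⟨C, fun _ => hC'⟩
    · exact ⟨0, fun h' => absurd h' h⟩
  choose C hC' using hs
  set T := (finite_charSet (H := (K.subgroupOf (Subgroup.normalizer (K : Set G))))).toFinset with hTdef
  have hKC := kernelCond hC
  obtain ⟨m, hm⟩ := exists_common_ratio hKC T (Set.Finite.coe_toFinset _) C
    fun χ hχ ξ hξ => by
    rw [hTdef, Set.Finite.mem_toFinset] at hχ hξ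
    have h := congrFun (map_pair hσ hext hχ hξ) k₀
    have hcl : IsClassFunction ↥(Subgroup.normalizer (K : Set G)) ((deg ξ : ℂ) • χ - (deg χ : ℂ) • ξ) := fun g y => by
      simp [IsIrrCharacter.isClassFunction hχ.1 g y, IsIrrCharacter.isClassFunction hξ.1 g y]
    rw [CfsgLib.Frobenius.indFun_coe_of_ti (Subgroup.normalizer (K : Set G)) (K : Set G)
      (fun x hx s hs hsx => hTI x⁻¹ (fun h => hx (by simpa using (Subgroup.normalizer (K : Set G)).inv_mem h)) s hs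
        (by simpa using hsx)) _ hcl (fun y hy => by
          have hyH : y ∉ (K.subgroupOf (Subgroup.normalizer (K : Set G))) := fun h => hy (Subgroup.mem_subgroupOf.1 h)
          simp [eq_zero_off hKC hχ hyH, eq_zero_off hKC hξ hyH]) (by
          simp [apply_one hχ.1, apply_one hξ.1, mul_comm]) k₀ hk₀] at h
    simp only [Pi.sub_apply, Pi.smul_apply, smul_eq_mul, hC' χ hχ k₀ hk₀ hk₀1,
      hC' ξ hξ k₀ hk₀ hk₀1] at h
    have h' : (C χ : ℂ) * (deg ξ : ℂ) = (C ξ : ℂ) * (deg χ : ℂ) := by linear_combination -h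
    exact_mod_cast h'
  refine ⟨m, fun χ hχ k hk hk1 => ?_⟩
  rw [hC' χ hχ k hk hk1, add_sub_cancel_left,
    eq_div_iff (Nat.cast_ne_zero.2 Subgroup.index_ne_zero_of_finite), apply_one hχ.1]
  exact_mod_cast hm χ ((Set.Finite.mem_toFinset _).2 hχ)

end Global

end CfsgLib.Coherence.TIFN
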